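import Mathlib

set_option autoImplicit false
set_option backward.isDefEq.respectTransparency false
set_option backward.isDefEq.respectTransparency.types false
universe w v u

/-!
# Epimorphisms of abelian sheaves and weakly contractible objects
-/

open CategoryTheory CategoryTheory.Limits Opposite

namespace Groth.Agent.WCLib

variable {C : Type u} [Category.{v} C] {J : GrothendieckTopology C}
  [HasSheafify J AddCommGrpCat.{w}] [J.WEqualsLocallyBijective AddCommGrpCat.{w}]

/-- An epimorphism of abelian sheaves is surjective on sections over a weakly contractible object. -/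
theorem surjective_of_epi {U : C}
    (hU : ∀ (P Q : Sheaf J (Type w)) (ψ : P ⟶ Q), Epi ψ → Function.Surjective (ψ.hom.app (op U)))
    {F G : Sheaf J AddCommGrpCat.{w}} (φ : F ⟶ G) [Epi φ] :
    Function.Surjective (φ.hom.app (op U)) := by
  haveI : Sheaf.IsLocallySurjective φ :=
    (Sheaf.isLocallySurjective_iff_epi' AddCommGrpCat.{w} φ).2 inferInstance
  haveI : Presheaf.IsLocallySurjective J
      (Functor.whiskerRight φ.hom (forget AddCommGrpCat.{w})) :=
    (Presheaf.isLocallySurjective_iff_whisker_forget J φ.hom).1 ‹Sheaf.IsLocallySurjective φ›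
  haveI : Sheaf.IsLocallySurjective ((sheafCompose J (forget AddCommGrpCat.{w})).map φ) :=
    ‹Presheaf.IsLocallySurjective J (Functor.whiskerRight φ.hom (forget AddCommGrpCat.{w}))›
  exact hU _ _ ((sheafCompose J (forget AddCommGrpCat.{w})).map φ) inferInstance

/-- A morphism of abelian sheaves which is surjective on sections over a class of objects covering
every object is an epimorphism. -/
theorem epi_of_surjective (B : C → Prop)
    (hcov : ∀ V : C, ∃ S : Sieve V, S ∈ J V ∧ ∀ ⦃W : C⦄ (f : W ⟶ V), S.arrows f →
      ∃ (U : C) (g : W ⟶ U) (h : U ⟶ V), B U ∧ g ≫ h = f)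
    {F G : Sheaf J AddCommGrpCat.{w}} (φ : F ⟶ G)
    (hφ : ∀ U : C, B U → Function.Surjective (φ.hom.app (op U))) : Epi φ := by
  haveI : Sheaf.IsLocallySurjective φ := by
    constructor
    intro V s
    obtain ⟨S, hS, hfac⟩ := hcov V
    refine J.superset_covering ?_ hS
    intro W f hf
    obtain ⟨U, g, h, hU, rfl⟩ := hfac f hf
    obtain ⟨t, ht⟩ := hφ U hU (G.obj.map h.op s)
    refine ⟨F.obj.map g.op t, ?_⟩
    rw [NatTrans.naturality_apply φ.hom g.op t, ht]
    exact (congrArg (fun m => (m : G.obj.obj (op V) ⟶ G.obj.obj (op W)) s)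
      (G.obj.map_comp h.op g.op)).symm
  exact Sheaf.epi_of_isLocallySurjective φ

/-- A short complex of abelian sheaves is exact iff it is exact on sections over a covering class
of weakly contractible objects. -/
theorem exact_iff (B : C → Prop)
    (hB : ∀ U : C, B U → ∀ (P Q : Sheaf J (Type w)) (ψ : P ⟶ Q), Epi ψ →
      Function.Surjective (ψ.hom.app (op U)))
    (hcov : ∀ V : C, ∃ S : Sieve V, S ∈ J V ∧ ∀ ⦃W : C⦄ (f : W ⟶ V), S.arrows f →
      ∃ (U : C) (g : W ⟶ U) (h : U ⟶ V), B U ∧ g ≫ h = f)
    (S : ShortComplex (Sheaf J AddCommGrpCat.{w})) :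
    S.Exact ↔ ∀ U : C, B U →
      (S.map (sheafToPresheaf J AddCommGrpCat.{w} ⋙
        (evaluation Cᵒᵖ AddCommGrpCat.{w}).obj (op U))).Exact := by
  -- compare the kernel of `g` on sections with the sections of the kernel
  have key : ∀ (U : C),
      Function.Surjective ((kernel.lift S.g S.f S.zero).hom.app (op U)) ↔
      (S.map (sheafToPresheaf J AddCommGrpCat.{w} ⋙
        (evaluation Cᵒᵖ AddCommGrpCat.{w}).obj (op U))).Exact := by
    intro U
    let E := sheafToPresheaf J AddCommGrpCat.{w} ⋙ (evaluation Cᵒᵖ AddCommGrpCat.{w}).obj (op U)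
    haveI : PreservesFiniteLimits E := comp_preservesFiniteLimits _ _
    haveI : E.Additive := Functor.additive_of_preserves_binary_products E
    rw [ShortComplex.exact_iff_epi_kernel_lift, AddCommGrpCat.epi_iff_surjective]
    have hiso : kernel.lift (S.map E).g (S.map E).f (S.map E).zero =
        E.map (kernel.lift S.g S.f S.zero) ≫ (PreservesKernel.iso E S.g).hom := by
      rw [PreservesKernel.iso_hom, map_lift_kernelComparison]
      rfl
    rw [hiso]
    constructor
    · intro h
      exact (ConcreteCategory.bijective_of_isIso (PreservesKernel.iso E S.g).hom).surjective.comp h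
    · intro h y
      obtain ⟨x, hx⟩ := h ((PreservesKernel.iso E S.g).hom y)
      exact ⟨x, (ConcreteCategory.bijective_of_isIso (PreservesKernel.iso E S.g).hom).injective hx⟩
  rw [S.exact_iff_epi_kernel_lift]
  constructor
  · intro h U hU
    exact (key U).1 (surjective_of_epi (hB U hU) _)
  · intro h
    exact epi_of_surjective B hcov _ fun U hU => (key U).2 (h U hU)

end Groth.Agent.WCLib
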